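import Cfsg.Agent.OD.Pre
import Cfsg.Agent.H6.HNC.F0
import Cfsg.Agent.H6.HNC.O
set_option autoImplicit false
set_option maxRecDepth 100000
set_option Elab.async false
set_option linter.all false
namespace CfH6.HNC
open CfH6 CfH6.D MulAction
theorem p0 : Rng (P.chk) 0 767 := rng_of 0 5 127 767 (by decide +kernel)
theorem c0 : (QO.ok && Nat.blt 0 QO.m && Nat.beq (P.chkCos QO trO 767 LM ed 0 [nat_lit 26, nat_lit 732, nat_lit 21] 0 0 1 ct0) 0) = true := by decide +kernel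
theorem c1 : (QO.ok && Nat.blt 0 QO.m && Nat.beq (P.chkCos QO trO 767 LM ed 1 [nat_lit 24, nat_lit 22] 1 0 11 ct1) 0) = true := by decide +kernel
theorem l1 : (HSD.QD.ok && Nat.beq (chkLevs HSD.QD HSD.trD P.cdK (P.okE 767 1) lev1 []) 0 && Nat.beq (lev1.map Lev.c).prod 126000) = true := by decide +kernel
theorem c2 : (QO.ok && Nat.blt 0 QO.m && Nat.beq (P.chkCos QO trO 767 LM ed 2 [nat_lit 49, nat_lit 52, nat_lit 200, nat_lit 45, nat_lit 39, nat_lit 43] 12 0 4 ct2) 0) = true := by decide +kernel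
theorem l2 : (HSD.QD.ok && Nat.beq (chkLevs HSD.QD HSD.trD P.cdK (P.okE 767 2) lev2 []) 0 && Nat.beq (lev2.map Lev.c).prod 80640) = true := by decide +kernel
theorem c3 : (QO.ok && Nat.blt 0 QO.m && Nat.beq (P.chkCos QO trO 767 LM ed 3 [nat_lit 70, nat_lit 56, nat_lit 61, nat_lit 59] 16 0 14 ct3) 0) = true := by decide +kernel
theorem l3 : (HSD.QD.ok && Nat.beq (chkLevs HSD.QD HSD.trD P.cdK (P.okE 767 3) lev3 []) 0 && Nat.beq (lev3.map Lev.c).prod 5040) = true := by decide +kernel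
theorem c5 : (QO.ok && Nat.blt 0 QO.m && Nat.beq (P.chkCos QO trO 767 LM ed 5 [nat_lit 211, nat_lit 221, nat_lit 224, nat_lit 284, nat_lit 259] 30 0 16 ct5) 0) = true := by decide +kernel
theorem l5 : (HSD.QD.ok && Nat.beq (chkLevs HSD.QD HSD.trD P.cdK (P.okE 767 5) lev5 []) 0 && Nat.beq (lev5.map Lev.c).prod 1440) = true := by decide +kernel
theorem c6 : (QO.ok && Nat.blt 0 QO.m && Nat.beq (P.chkCos QO trO 767 LM ed 6 [nat_lit 346, nat_lit 338, nat_lit 352, nat_lit 425] 46 0 16 ct6) 0) = true := by decide +kernel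
theorem l6 : (HSD.QD.ok && Nat.beq (chkLevs HSD.QD HSD.trD P.cdK (P.okE 767 6) lev6 []) 0 && Nat.beq (lev6.map Lev.c).prod 500) = true := by decide +kernel
theorem c7 : (QO.ok && Nat.blt 0 QO.m && Nat.beq (P.chkCos QO trO 767 LM ed 7 [nat_lit 468, nat_lit 516, nat_lit 476, nat_lit 460] 62 0 30 ct7) 0) = true := by decide +kernel
theorem l7 : (HSD.QD.ok && Nat.beq (chkLevs HSD.QD HSD.trD P.cdK (P.okE 767 7) lev7 []) 0 && Nat.beq (lev7.map Lev.c).prod 240) = true := by decide +kernel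
theorem c8 : (QO.ok && Nat.blt 0 QO.m && Nat.beq (P.chkCos QO trO 767 LM ed 8 [nat_lit 668, nat_lit 707, nat_lit 643, nat_lit 694, nat_lit 650] 92 0 7 ct8) 0) = true := by decide +kernel
theorem l8 : (HSD.QD.ok && Nat.beq (chkLevs HSD.QD HSD.trD P.cdK (P.okE 767 8) lev8 []) 0 && Nat.beq (lev8.map Lev.c).prod 640) = true := by decide +kernel
theorem c9 : (QO.ok && Nat.blt 0 QO.m && Nat.beq (P.chkCos QO trO 767 LM ed 9 [nat_lit 718, nat_lit 722, nat_lit 725, nat_lit 730, nat_lit 712, nat_lit 710] 99 0 2 ct9) 0) = true := by decide +kernel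
theorem l9 : (HSD.QD.ok && Nat.beq (chkLevs HSD.QD HSD.trD P.cdK (P.okE 767 9) lev9 []) 0 && Nat.beq (lev9.map Lev.c).prod 30720) = true := by decide +kernel
theorem lB : (HSD.QD.ok && Nat.beq (chkLevs HSD.QD HSD.trD P.cdK (P.okP 767 trO) levB []) 0 && Nat.beq (levB.map Lev.c).prod 126000) = true := by decide +kernel
end CfH6.HNC
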